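import Groth.Agent.Lib.Liaison.Regular
import Groth.Agent.Lib.LC.Tight
import Groth.Agent.Lib.Altitude.Basic
import Mathlib.RingTheory.QuasiFinite.Basic
import Mathlib.RingTheory.RegularLocalRing.Polynomial
import Mathlib.RingTheory.Flat.Localization
import Mathlib.RingTheory.Ideal.KrullsHeightTheorem

/-!
# Flatness of quasi-finite algebras over a regular ring
-/

set_option linter.style.haveILetI false
universe u

open IsLocalRing RingTheory.Sequence

namespace GrothLib.QFPoly

theorem depth_ge_length {B : Type u} [CommRing B] [IsNoetherianRing B] [IsLocalRing B] {l : List B}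
    (hm : ∀ x ∈ l, x ∈ maximalIdeal B) (h : IsWeaklyRegular B l) : (l.length : ℕ∞) ≤ LocCoh.depth B B :=
  (GrothLib.Depth.le_idealDepth_iff_exists _
    (by rw [smul_eq_mul, Ideal.mul_top]; exact (maximalIdeal.isMaximal B).ne_top) _).2 ⟨l, rfl, hm, h⟩

theorem dim_le_length {B : Type u} [CommRing B] [IsNoetherianRing B] [IsLocalRing B] {l : List B}
    (h : (Ideal.ofList l).radical = maximalIdeal B) : ringKrullDim B ≤ l.length := by
  classical
  rw [← IsLocalRing.maximalIdeal_height_eq_ringKrullDim]
  have hmin : maximalIdeal B ∈ (Ideal.ofList l).minimalPrimes := by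
    refine ⟨⟨(maximalIdeal.isMaximal B).isPrime, h ▸ Ideal.le_radical⟩, fun q hq _ => ?_⟩
    rw [← h]
    exact hq.1.radical_le_iff.2 hq.2
  have h0 : Ideal.ofList l = Ideal.span (l.toFinset : Set B) :=
    congrArg Ideal.span (Set.ext fun x => by simp)
  rw [h0] at hmin
  refine le_trans (WithBot.coe_le_coe.2 (Ideal.height_le_card_of_mem_minimalPrimes_span_finset hmin)) ?_
  exact_mod_cast List.toFinset_card_le l

/-- The key criterion. -/
theorem isWeaklyRegular_iff {B : Type u} [CommRing B] [IsNoetherianRing B] [IsLocalRing B] {l : List B}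
    (h : (Ideal.ofList l).radical = maximalIdeal B) :
    IsWeaklyRegular B l ↔ LocCoh.IsCohenMacaulayLocalRing B ∧ ringKrullDim B = l.length := by
  have hm : ∀ x ∈ l, x ∈ maximalIdeal B := fun x hx => h ▸ Ideal.le_radical (Ideal.subset_span hx)
  constructor
  · intro hreg
    have h1 := depth_ge_length hm hreg
    have h2 := GrothLib.Depth.depth_le_supportDim B B
    rw [Module.supportDim_self_eq_ringKrullDim] at h2
    have h3 : ringKrullDim B = l.length :=
      le_antisymm (dim_le_length h) ((WithBot.coe_le_coe.2 h1).trans h2)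
    refine ⟨{ supportDim_eq_depth := ?_ }, h3⟩
    rw [Module.supportDim_self_eq_ringKrullDim]
    exact le_antisymm (h3 ▸ WithBot.coe_le_coe.2 h1) h2
  · rintro ⟨hCM, hd⟩
    exact GrothLib.TightSop.isWeaklyRegular_of_sop
      (GrothLib.TightSop.cm_of_inst _ hCM.supportDim_eq_depth hd) ⟨rfl, h⟩

variable {P S : Type u} [CommRing P] [IsNoetherianRing P] [IsRegularRing P] [CommRing S] [IsNoetherianRing S] [Algebra P S]
  [Algebra.QuasiFinite P S]

theorem radical_map_eq (p : Ideal P) [p.IsPrime] (q : Ideal S) [q.IsPrime] [q.LiesOver p] :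
    (p.map (algebraMap P (Localization.AtPrime q))).radical = maximalIdeal (Localization.AtPrime q) := by
  refine le_antisymm ?_ ?_
  · refine (maximalIdeal.isMaximal _).isPrime.radical_le_iff.2 (Ideal.map_le_iff_le_comap.2 fun a ha => ?_)
    rw [Ideal.mem_comap, IsScalarTower.algebraMap_apply P S (Localization.AtPrime q),
      IsLocalization.AtPrime.to_map_mem_maximal_iff _ q]
    have h : a ∈ q.under P := (q.over_def p) ▸ ha
    exact h
  rw [Ideal.radical_eq_sInf]
  refine le_sInf ?_
  rintro Q ⟨hQ, hQP⟩
  haveI := hQP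
  have hle : Q.under S ≤ q := by
    refine le_trans (Ideal.comap_mono (le_maximalIdeal hQP.ne_top)) ?_
    exact le_of_eq (IsLocalization.AtPrime.comap_maximalIdeal (Localization.AtPrime q) q)
  have hP : (Q.under S).under P = q.under P := by
    refine le_antisymm (Ideal.comap_mono hle) ?_
    rw [← q.over_def p]
    intro a ha
    show algebraMap S (Localization.AtPrime q) (algebraMap P S a) ∈ Q
    rw [← IsScalarTower.algebraMap_apply]
    exact hQ (Ideal.mem_map_of_mem _ ha)
  have heq : Q.under S = q := Algebra.QuasiFinite.eq_of_le_of_under_eq _ _ hle hP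
  rw [← Localization.AtPrime.map_eq_maximalIdeal]
  exact Ideal.map_le_iff_le_comap.2 heq.ge

theorem flat_iff (p : Ideal P) [p.IsPrime] (q : Ideal S) [q.IsPrime] [q.LiesOver p] :
    Module.Flat P (Localization.AtPrime q) ↔
      LocCoh.IsCohenMacaulayLocalRing (Localization.AtPrime q) ∧
        ringKrullDim (Localization.AtPrime q) = ringKrullDim (Localization.AtPrime p) := by
  let L := Localization.AtPrime p
  let B := Localization.AtPrime q
  letI : Algebra L B := (Localization.localRingHom p q (algebraMap P S) (q.over_def p)).toAlgebra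
  haveI : IsScalarTower P L B := IsScalarTower.of_algebraMap_eq fun a => by
    rw [RingHom.algebraMap_toAlgebra, Localization.localRingHom_to_map]
    rfl
  haveI : IsLocalHom (algebraMap L B) := Localization.isLocalHom_localRingHom p q (algebraMap P S) (q.over_def p)
  haveI : IsRegularLocalRing L := inferInstance
  obtain ⟨ts, hts, hm, hk⟩ := GrothLib.Liaison.exists_regular_system L
  have hmax : Ideal.ofList ts = maximalIdeal L :=
    ((Ideal.Quotient.maximal_ideal_iff_isField_quotient _).2 hk).eq_of_le (maximalIdeal.isMaximal L).ne_top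
      (Ideal.span_le.2 hm)
  have hL : ringKrullDim L = ts.length :=
    ((isWeaklyRegular_iff (by rw [hmax]; exact (maximalIdeal.isMaximal L).isPrime.radical)).1 hts).2
  have hrad : (Ideal.ofList (ts.map (algebraMap L B))).radical = maximalIdeal B := by
    rw [← Ideal.map_ofList, hmax, ← Localization.AtPrime.map_eq_maximalIdeal, Ideal.map_map,
      ← IsScalarTower.algebraMap_eq]
    exact radical_map_eq p q
  rw [hL, show (ts.length : WithBot ℕ∞) = ((ts.map (algebraMap L B)).length : ℕ) by rw [List.length_map],
    ← isWeaklyRegular_iff hrad, ← Module.flat_iff_of_isLocalization L p.primeCompl B]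
  constructor
  · intro hflat
    exact IsWeaklyRegular.of_flat hts
  · intro h
    exact GrothLib.FibreFlat.flat_of_weaklyRegular ts hts ((isWeaklyRegular_map_algebraMap_iff B B ts).1 h)
      (fun t ht => map_nonunit (algebraMap L B) t (hm t ht)) hk

theorem add_natCast_cancel {a b : WithBot ℕ∞} (n : ℕ) (h : a + (n : WithBot ℕ∞) = b + (n : WithBot ℕ∞)) : a = b := by
  cases a with
  | bot =>
    cases b with
    | bot => rfl
    | coe b => rw [WithBot.bot_add] at h; exact absurd h.symm WithBot.coe_ne_bot
  | coe a =>
    cases b with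
    | bot => rw [WithBot.bot_add] at h; exact absurd h WithBot.coe_ne_bot
    | coe b =>
      have h' : a + (n : ℕ∞) = b + (n : ℕ∞) := WithBot.coe_injective h
      rw [(WithTop.add_right_inj (ENat.coe_ne_top n)).1 h']

end GrothLib.QFPoly
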